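import Cfsg.Agent.Helper71.BSW.DefsCT
import Cfsg.Agent.Helper74.FSCount
import Cfsg.Agent.Helper79.CharComplete
import Cfsg.Agent.Helper63.BSW.S1

/-!
# S3282 (helper71) piece (S2): the lattice lemma applied to the multiplicity vectors of the
`theta K μ`
-/

set_option autoImplicit false

namespace Cfsg.Agent.Helper12.BSW

open Cfsg Cfsg.Agent.Helper71.BSW

/-- a Kronecker delta with a coefficient -/
theorem cast_ite_ind {α : Type*} [DecidableEq α] (a b : α) (c : ℂ) :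
    (if a = b then c else 0) = c * ind a b := by
  by_cases h : a = b
  · rw [if_pos h, ind_of_eq h, mul_one]
  · rw [if_neg h, ind_of_ne h, mul_zero]

theorem cast_ite_ind_one {α : Type*} [DecidableEq α] (a b : α) :
    (if a = b then (1 : ℂ) else 0) = ind a b := by
  rw [cast_ite_ind, one_mul]

theorem inv_ne_one' {K : Type*} [Group K] {μ : K →* ℂˣ} (h : μ ≠ 1) : μ⁻¹ ≠ 1 := by
  intro h'
  apply h
  ext y
  have h1 := DFunLike.congr_fun h' y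
  rw [MonoidHom.inv_apply, MonoidHom.one_apply, inv_eq_one] at h1
  rw [h1, MonoidHom.one_apply]

/-- the lattice lemma for the `theta K μ`, with the index set `{μ // μ ≠ 1}` -/
theorem s_shape_aux {G : Type*} [Group G] [Fintype G] [Fintype (IrrCharacter G)] {t s : G}
    {K : Subgroup G} [Fintype ↥K] [Fintype (↥K →* ℂˣ)] [DecidableEq (IrrCharacter G)]
    [DecidableEq (↥K →* ℂˣ)]
    (hk : 4 ≤ Nat.card K) (T : FactsT t s K) (σ : K →* ℂˣ) (hσ1 : σ ≠ 1) (hσinv : σ⁻¹ = σ)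
    (hσu : ∀ μ : K →* ℂˣ, μ ≠ 1 → μ⁻¹ = μ → μ = σ) :
    ∃ (δ : ℤ) (X : IrrCharacter G) (Λ : {μ : K →* ℂˣ // μ ≠ 1} → IrrCharacter G),
      (δ = 1 ∨ δ = -1) ∧ X ≠ Cfsg.Agent.Helper74.irrTriv G ∧
      (∀ μ : {μ : K →* ℂˣ // μ ≠ 1}, μ.1 ≠ σ → Λ μ ≠ Cfsg.Agent.Helper74.irrTriv G ∧ Λ μ ≠ X ∧
        Λ ⟨μ.1⁻¹, inv_ne_one' μ.2⟩ = Λ μ ∧
        ∀ χ, coef K μ.1 χ = ind χ (Cfsg.Agent.Helper74.irrTriv G) + (δ : ℂ) * ind χ X -
          (δ : ℂ) * ind χ (Λ μ)) ∧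
      (∀ μ ν : {μ : K →* ℂˣ // μ ≠ 1}, μ.1 ≠ σ → ν.1 ≠ σ → Λ μ = Λ ν →
        μ.1 = ν.1 ∨ μ.1 = ν.1⁻¹) ∧
      ((∃ (Y₁ Y₂ : IrrCharacter G) (ε₁ ε₂ : ℤ), (ε₁ = 1 ∨ ε₁ = -1) ∧ (ε₂ = 1 ∨ ε₂ = -1) ∧ Y₁ ≠ Y₂ ∧
          Y₁ ≠ Cfsg.Agent.Helper74.irrTriv G ∧ Y₂ ≠ Cfsg.Agent.Helper74.irrTriv G ∧ Y₁ ≠ X ∧
          Y₂ ≠ X ∧
          (∀ μ : {μ : K →* ℂˣ // μ ≠ 1}, μ.1 ≠ σ → Λ μ ≠ Y₁ ∧ Λ μ ≠ Y₂) ∧
          ∀ χ, coef K σ χ = ind χ (Cfsg.Agent.Helper74.irrTriv G) + (δ : ℂ) * ind χ X +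
            (ε₁ : ℂ) * ind χ Y₁ + (ε₂ : ℂ) * ind χ Y₂) ∨
       (Fintype.card {μ : K →* ℂˣ // μ ≠ 1} = 5 ∧ ∃ (C : IrrCharacter G) (ε : ℤ),
          (ε = 1 ∨ ε = -1) ∧ C ≠ Cfsg.Agent.Helper74.irrTriv G ∧ C ≠ X ∧
          (∀ μ : {μ : K →* ℂˣ // μ ≠ 1}, μ.1 ≠ σ → Λ μ ≠ C) ∧
          ∀ χ, coef K σ χ = ind χ (Cfsg.Agent.Helper74.irrTriv G) -
            (if ∃ μ : {μ : K →* ℂˣ // μ ≠ 1}, μ.1 ≠ σ ∧ χ = Λ μ then (δ : ℂ) else 0) +
            (ε : ℂ) * ind χ C)) := by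
  set triv := Cfsg.Agent.Helper74.irrTriv G with htriv
  -- the integer multiplicities
  choose a ha using T.coef_int
  have hcard : 3 ≤ Fintype.card {μ : K →* ℂˣ // μ ≠ 1} := by
    have h1 : Fintype.card {μ : K →* ℂˣ // μ ≠ 1} = Fintype.card (↥K →* ℂˣ) - 1 := by
      rw [Fintype.card_subtype_compl, Fintype.card_subtype_eq]
    rw [h1, T.card_dual]
    omega
  have hdegtriv : (charDegree (triv : G → ℂ) : ℤ) = 1 := by
    have h1 := Cfsg.Agent.Helper79.irr_one triv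
    rw [htriv, Cfsg.Agent.Helper74.irrTriv_apply] at h1
    have h2 : charDegree ((Cfsg.Agent.Helper74.irrTriv G : IrrCharacter G) : G → ℂ) = 1 := by
      exact_mod_cast h1.symm
    rw [htriv, h2]
    rfl
  obtain ⟨δ, X, Λ, hδ, hX, hΛ, hΛinj, hcase⟩ :=
    Cfsg.Agent.Helper63.BSW.lattice_main (I := IrrCharacter G)
      (M := {μ : K →* ℂˣ // μ ≠ 1}) triv
      (fun χ => (charDegree (χ : G → ℂ) : ℤ))
      (fun χ => by exact_mod_cast Cfsg.Agent.Helper79.irr_charDegree_pos χ)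
      hdegtriv
      (fun μ => ⟨μ.1⁻¹, inv_ne_one' μ.2⟩)
      (fun μ => Subtype.ext (inv_inv μ.1))
      ⟨σ, hσ1⟩ (Subtype.ext hσinv)
      (fun μ hμ => Subtype.ext (hσu μ.1 μ.2 (congrArg Subtype.val hμ)))
      hcard
      (fun μ χ => a μ.1 χ)
      (fun μ => by
        funext χ
        have h1 := T.coef_inv μ.1 χ
        rw [ha, ha] at h1
        exact_mod_cast h1)
      (fun μ => by
        have h1 := T.coef_triv μ.1 triv μ.2 (fun g => Cfsg.Agent.Helper74.irrTriv_apply g)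
        rw [ha] at h1
        exact_mod_cast h1)
      (fun μ ν => by
        have h1 := T.gram μ.1 ν.1 μ.2 ν.2
        simp only [ha] at h1
        have h2 : ((∑ χ : IrrCharacter G, a μ.1 χ * a ν.1 χ : ℤ) : ℂ) =
            ((2 + (if μ = ν then 1 else 0) + (if μ = (⟨ν.1⁻¹, inv_ne_one' ν.2⟩ :
              {μ : K →* ℂˣ // μ ≠ 1}) then 1 else 0) : ℤ) : ℂ) := by
          push_cast
          rw [h1]
          congr 1
          · congr 1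
            by_cases h : μ = ν
            · rw [if_pos h, ind_of_eq (congrArg Subtype.val h)]
            · rw [if_neg h, ind_of_ne (fun h' => h (Subtype.ext h'))]
          · by_cases h : μ = (⟨ν.1⁻¹, inv_ne_one' ν.2⟩ : {μ : K →* ℂˣ // μ ≠ 1})
            · rw [if_pos h, ind_of_eq (congrArg Subtype.val h)]
            · rw [if_neg h, ind_of_ne (fun h' => h (Subtype.ext h'))]
        exact_mod_cast h2)
      (fun μ => by
        have h1 := T.theta_expand μ.1 1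
        rw [T.theta_one] at h1
        have h2 : ((∑ χ : IrrCharacter G, a μ.1 χ * (charDegree (χ : G → ℂ) : ℤ) : ℤ) : ℂ) = 0 := by
          push_cast
          rw [h1]
          apply Finset.sum_congr rfl
          intro χ _
          rw [ha, Cfsg.Agent.Helper79.irr_one]
        exact_mod_cast h2)
  refine ⟨δ, X, Λ, hδ, hX, ?_, ?_, ?_⟩
  · intro μ hμ
    obtain ⟨h1, h2, h3, h4⟩ := hΛ μ (fun h => hμ (congrArg Subtype.val h))
    refine ⟨h1, h2, h3, ?_⟩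
    intro χ
    rw [ha, h4 χ]
    push_cast
    rw [cast_ite_ind_one, cast_ite_ind, cast_ite_ind]
  · intro μ ν hμ hν hΛμν
    rcases hΛinj μ ν (fun h => hμ (congrArg Subtype.val h)) (fun h => hν (congrArg Subtype.val h))
      hΛμν with h | h
    · exact Or.inl (congrArg Subtype.val h)
    · exact Or.inr (congrArg Subtype.val h)
  · rcases hcase with ⟨Y₁, Y₂, ε₁, ε₂, hε₁, hε₂, hY12, hY1o, hY2o, hY1X, hY2X, hΛY, hσf⟩ |
      ⟨hM5, C, ε, hε, hCo, hCX, hΛC, hσf⟩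
    · left
      refine ⟨Y₁, Y₂, ε₁, ε₂, hε₁, hε₂, hY12, hY1o, hY2o, hY1X, hY2X, ?_, ?_⟩
      · intro μ hμ
        exact hΛY μ (fun h => hμ (congrArg Subtype.val h))
      · intro χ
        rw [ha, hσf χ]
        push_cast
        rw [cast_ite_ind_one, cast_ite_ind, cast_ite_ind, cast_ite_ind]
    · right
      refine ⟨hM5, C, ε, hε, hCo, hCX, ?_, ?_⟩
      · intro μ hμ
        exact hΛC μ (fun h => hμ (congrArg Subtype.val h))
      · intro χ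
        rw [ha, hσf χ]
        push_cast
        rw [cast_ite_ind_one, cast_ite_ind]
        congr 2
        have hiff : (∃ μ : {μ : K →* ℂˣ // μ ≠ 1}, μ ≠ ⟨σ, hσ1⟩ ∧ χ = Λ μ) ↔
            ∃ μ : {μ : K →* ℂˣ // μ ≠ 1}, μ.1 ≠ σ ∧ χ = Λ μ := by
          constructor
          · rintro ⟨μ, h1, h2⟩
            exact ⟨μ, fun h => h1 (Subtype.ext h), h2⟩
          · rintro ⟨μ, h1, h2⟩
            exact ⟨μ, fun h => h1 (congrArg Subtype.val h), h2⟩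
        by_cases hex : ∃ μ : {μ : K →* ℂˣ // μ ≠ 1}, μ.1 ≠ σ ∧ χ = Λ μ
        · rw [if_pos hex, if_pos (hiff.2 hex)]
        · rw [if_neg hex, if_neg (fun h => hex (hiff.1 h))]

theorem s_shape {G : Type*} [Group G] [Fintype G] [Fintype (IrrCharacter G)] {t s : G} {K : Subgroup G}
    [Fintype ↥K] [Fintype (↥K →* ℂˣ)]
    (h : Hyp t s K) (hk : 4 ≤ Nat.card K) (T : FactsT t s K) :
    ∃ (triv : IrrCharacter G) (σ : K →* ℂˣ) (δ : ℤ) (X : IrrCharacter G)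
      (Λ : (K →* ℂˣ) → IrrCharacter G),
      (∃ (Y₁ Y₂ : IrrCharacter G) (ε₁ ε₂ : ℤ), ShapeA K triv σ δ X Λ Y₁ Y₂ ε₁ ε₂) ∨
      (∃ (C : IrrCharacter G) (ε : ℤ) (ν₁ ν₂ : K →* ℂˣ), ShapeB K triv σ δ X Λ C ε ν₁ ν₂) := by
  classical
  obtain ⟨σ, hσ1, hσinv, hσu⟩ := T.exists_sigma
  obtain ⟨δ, X, ΛM, hδ, hX, hΛ, hΛinj, hcase⟩ := s_shape_aux hk T σ hσ1 hσinv hσu
  set triv := Cfsg.Agent.Helper74.irrTriv G with htriv
  -- extend `Λ`
  set Λ : (K →* ℂˣ) → IrrCharacter G := fun μ => if hμ : μ ≠ 1 then ΛM ⟨μ, hμ⟩ else triv with hΛdef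
  have hΛeq : ∀ (μ : K →* ℂˣ) (hμ : μ ≠ 1), Λ μ = ΛM ⟨μ, hμ⟩ := by
    intro μ hμ
    rw [hΛdef]
    exact dif_pos hμ
  have hcoef : ∀ μ : K →* ℂˣ, μ ≠ 1 → μ ≠ σ → ∀ χ : IrrCharacter G,
      coef K μ χ = ind χ triv + δ * ind χ X - δ * ind χ (Λ μ) := by
    intro μ hμ1 hμσ χ
    rw [hΛeq μ hμ1]
    exact (hΛ ⟨μ, hμ1⟩ hμσ).2.2.2 χ
  have hΛinv : ∀ μ : K →* ℂˣ, μ ≠ 1 → μ ≠ σ → Λ μ⁻¹ = Λ μ := by
    intro μ hμ1 hμσ
    rw [hΛeq μ hμ1, hΛeq μ⁻¹ (inv_ne_one' hμ1)]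
    exact (hΛ ⟨μ, hμ1⟩ hμσ).2.2.1
  refine ⟨triv, σ, δ, X, Λ, ?_⟩
  rcases hcase with ⟨Y₁, Y₂, ε₁, ε₂, hε₁, hε₂, hY12, hY1o, hY2o, hY1X, hY2X, hΛY, hσf⟩ |
    ⟨hM5, C, ε, hε, hCo, hCX, hΛC, hσf⟩
  · left
    refine ⟨Y₁, Y₂, ε₁, ε₂, ?_⟩
    exact
      { triv_apply := fun g => Cfsg.Agent.Helper74.irrTriv_apply g
        hδ := hδ
        hε₁ := hε₁
        hε₂ := hε₂
        hσ1 := hσ1
        hσ := hσinv
        hσu := hσu
        X_ne := hX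
        Λ_ne := by
          intro μ hμ1 hμσ
          have h1 := hΛ ⟨μ, hμ1⟩ hμσ
          have h2 := hΛY ⟨μ, hμ1⟩ hμσ
          rw [hΛinv μ hμ1 hμσ, hΛeq μ hμ1]
          exact ⟨h1.1, h1.2.1, h2.1, h2.2, rfl⟩
        Λ_inj := by
          intro μ ν hμ1 hμσ hν1 hνσ hμν
          rw [hΛeq μ hμ1, hΛeq ν hν1] at hμν
          exact hΛinj ⟨μ, hμ1⟩ ⟨ν, hν1⟩ hμσ hνσ hμν
        Y_ne := ⟨hY12, hY1o, hY2o, hY1X, hY2X⟩
        coef_nonreal := hcoef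
        coef_sigma := hσf }
  · right
    -- the five elements of the index set
    have hex1 : ∃ ν₁ : {μ : K →* ℂˣ // μ ≠ 1}, ν₁.1 ≠ σ := by
      by_contra hcon
      push Not at hcon
      have : Fintype.card {μ : K →* ℂˣ // μ ≠ 1} ≤ 1 := by
        rw [Fintype.card_le_one_iff]
        intro x y
        exact Subtype.ext ((hcon x).trans (hcon y).symm)
      omega
    obtain ⟨ν₁, hν₁σ⟩ := hex1
    have hν₁inv : ν₁.1⁻¹ ≠ ν₁.1 := fun hh => hν₁σ (hσu ν₁.1 ν₁.2 hh)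
    have hex2 : ∃ ν₂ : {μ : K →* ℂˣ // μ ≠ 1}, ν₂.1 ≠ σ ∧ ν₂.1 ≠ ν₁.1 ∧ ν₂.1 ≠ ν₁.1⁻¹ := by
      by_contra hcon
      push Not at hcon
      have hsub : (Finset.univ : Finset {μ : K →* ℂˣ // μ ≠ 1}) ⊆
          {⟨σ, hσ1⟩, ν₁, ⟨ν₁.1⁻¹, inv_ne_one' ν₁.2⟩} := by
        intro x _
        simp only [Finset.mem_insert, Finset.mem_singleton]
        by_cases h1 : x.1 = σ
        · exact Or.inl (Subtype.ext h1)
        · by_cases h2 : x.1 = ν₁.1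
          · exact Or.inr (Or.inl (Subtype.ext h2))
          · exact Or.inr (Or.inr (Subtype.ext (hcon x h1 h2)))
      have := Finset.card_le_card hsub
      rw [Finset.card_univ, hM5] at this
      have h3 := Finset.card_le_three (a := (⟨σ, hσ1⟩ : {μ : K →* ℂˣ // μ ≠ 1})) (b := ν₁)
        (c := ⟨ν₁.1⁻¹, inv_ne_one' ν₁.2⟩)
      omega
    obtain ⟨ν₂, hν₂σ, hν₂1, hν₂1'⟩ := hex2
    have hinvinv : ∀ μ : K →* ℂˣ, μ⁻¹⁻¹ = μ := fun μ => inv_inv μ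
    have hν₂inv : ν₂.1⁻¹ ≠ ν₂.1 := fun hh => hν₂σ (hσu ν₂.1 ν₂.2 hh)
    have hall : ∀ μ : K →* ℂˣ, μ ≠ 1 → μ ≠ σ →
        μ = ν₁.1 ∨ μ = ν₁.1⁻¹ ∨ μ = ν₂.1 ∨ μ = ν₂.1⁻¹ := by
      intro μ hμ1 hμσ
      have hσinv' : ∀ x : K →* ℂˣ, x⁻¹ = σ → x = σ := by
        intro x hx
        rw [← hinvinv x, hx, hσinv]
      have e1 : ν₁.1⁻¹ ≠ σ := fun hh => hν₁σ (hσinv' _ hh)
      have e2 : ν₂.1⁻¹ ≠ σ := fun hh => hν₂σ (hσinv' _ hh)
      have e3 : ν₂.1⁻¹ ≠ ν₁.1 := fun hh => hν₂1' (by rw [← hh, hinvinv])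
      have e4 : ν₂.1⁻¹ ≠ ν₁.1⁻¹ := fun hh => hν₂1 (by rw [← hinvinv ν₂.1, hh, hinvinv])
      set s0 : {μ : K →* ℂˣ // μ ≠ 1} := ⟨σ, hσ1⟩ with hs0
      set s2 : {μ : K →* ℂˣ // μ ≠ 1} := ⟨ν₁.1⁻¹, inv_ne_one' ν₁.2⟩ with hs2
      set s4 : {μ : K →* ℂˣ // μ ≠ 1} := ⟨ν₂.1⁻¹, inv_ne_one' ν₂.2⟩ with hs4
      have h01 : s0 ≠ ν₁ := fun hh => hν₁σ (congrArg Subtype.val hh).symm
      have h02 : s0 ≠ s2 := fun hh => e1 (congrArg Subtype.val hh).symm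
      have h03 : s0 ≠ ν₂ := fun hh => hν₂σ (congrArg Subtype.val hh).symm
      have h04 : s0 ≠ s4 := fun hh => e2 (congrArg Subtype.val hh).symm
      have h12 : ν₁ ≠ s2 := fun hh => hν₁inv (congrArg Subtype.val hh).symm
      have h13 : ν₁ ≠ ν₂ := fun hh => hν₂1 (congrArg Subtype.val hh).symm
      have h14 : ν₁ ≠ s4 := fun hh => e3 (congrArg Subtype.val hh).symm
      have h23 : s2 ≠ ν₂ := fun hh => hν₂1' (congrArg Subtype.val hh).symm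
      have h24 : s2 ≠ s4 := fun hh => e4 (congrArg Subtype.val hh).symm
      have h34 : ν₂ ≠ s4 := fun hh => hν₂inv (congrArg Subtype.val hh).symm
      have hcard5 : ({s0, ν₁, s2, ν₂, s4} : Finset {μ : K →* ℂˣ // μ ≠ 1}).card = 5 := by
        rw [Finset.card_insert_of_notMem, Finset.card_insert_of_notMem,
          Finset.card_insert_of_notMem, Finset.card_insert_of_notMem, Finset.card_singleton]
        · simp only [Finset.mem_singleton]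
          exact h34
        · simp only [Finset.mem_insert, Finset.mem_singleton, not_or]
          exact ⟨h23, h24⟩
        · simp only [Finset.mem_insert, Finset.mem_singleton, not_or]
          exact ⟨h12, h13, h14⟩
        · simp only [Finset.mem_insert, Finset.mem_singleton, not_or]
          exact ⟨h01, h02, h03, h04⟩
      have huniv : ({s0, ν₁, s2, ν₂, s4} : Finset {μ : K →* ℂˣ // μ ≠ 1}) = Finset.univ := by
        apply Finset.eq_univ_of_card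
        rw [hcard5, hM5]
      have hmem : (⟨μ, hμ1⟩ : {μ : K →* ℂˣ // μ ≠ 1}) ∈
          ({s0, ν₁, s2, ν₂, s4} : Finset {μ : K →* ℂˣ // μ ≠ 1}) := by
        rw [huniv]
        exact Finset.mem_univ _
      simp only [Finset.mem_insert, Finset.mem_singleton] at hmem
      rcases hmem with hh | hh | hh | hh | hh
      · exact absurd (congrArg Subtype.val hh) hμσ
      · exact Or.inl (congrArg Subtype.val hh)
      · exact Or.inr (Or.inl (congrArg Subtype.val hh))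
      · exact Or.inr (Or.inr (Or.inl (congrArg Subtype.val hh)))
      · exact Or.inr (Or.inr (Or.inr (congrArg Subtype.val hh)))
    have hΛν12 : Λ ν₁.1 ≠ Λ ν₂.1 := by
      rw [hΛeq ν₁.1 ν₁.2, hΛeq ν₂.1 ν₂.2]
      intro hh
      rcases hΛinj ⟨ν₁.1, ν₁.2⟩ ⟨ν₂.1, ν₂.2⟩ hν₁σ hν₂σ hh with h' | h'
      · exact hν₂1 h'.symm
      · exact hν₂1' (by
          have h'' : ν₁.1 = ν₂.1⁻¹ := h'
          rw [h'', hinvinv])
    have hΛM1 := hΛ ⟨ν₁.1, ν₁.2⟩ hν₁σ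
    have hΛM2 := hΛ ⟨ν₂.1, ν₂.2⟩ hν₂σ
    have hΛC1 := hΛC ⟨ν₁.1, ν₁.2⟩ hν₁σ
    have hΛC2 := hΛC ⟨ν₂.1, ν₂.2⟩ hν₂σ
    rw [← hΛeq ν₁.1 ν₁.2] at hΛM1 hΛC1
    rw [← hΛeq ν₂.1 ν₂.2] at hΛM2 hΛC2
    refine ⟨C, ε, ν₁.1, ν₂.1, ?_⟩
    exact
      { triv_apply := fun g => Cfsg.Agent.Helper74.irrTriv_apply g
        hδ := hδ
        hε := hε
        hσ1 := hσ1
        hσ := hσinv
        hσu := hσu
        hν := ⟨ν₁.2, hν₁σ, ν₂.2, hν₂σ, fun hh => hν₂1 hh.symm, fun hh => hν₂1' (by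
          rw [hh, hinvinv])⟩
        hall := hall
        X_ne := hX
        C_ne := ⟨hCo, hCX, fun hh => hΛC1 hh.symm, fun hh => hΛC2 hh.symm⟩
        Λ_ne := ⟨hΛν12, hΛM1.1, hΛM2.1, hΛM1.2.1, hΛM2.2.1, hΛinv ν₁.1 ν₁.2 hν₁σ,
          hΛinv ν₂.1 ν₂.2 hν₂σ⟩
        coef_nonreal := hcoef
        coef_sigma := by
          intro χ
          rw [hσf χ]
          have key : (if ∃ μ : {μ : K →* ℂˣ // μ ≠ 1}, μ.1 ≠ σ ∧ χ = ΛM μ then (δ : ℂ) else 0) =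
              (δ : ℂ) * ind χ (Λ ν₁.1) + (δ : ℂ) * ind χ (Λ ν₂.1) := by
            by_cases h1 : χ = Λ ν₁.1
            · rw [if_pos ⟨⟨ν₁.1, ν₁.2⟩, hν₁σ, by rw [h1, hΛeq ν₁.1 ν₁.2]⟩, ind_of_eq h1,
                ind_of_ne (by rw [h1]; exact hΛν12), mul_one, mul_zero, add_zero]
            · by_cases h2 : χ = Λ ν₂.1
              · rw [if_pos ⟨⟨ν₂.1, ν₂.2⟩, hν₂σ, by rw [h2, hΛeq ν₂.1 ν₂.2]⟩, ind_of_eq h2,
                  ind_of_ne h1, mul_one, mul_zero, zero_add]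
              · rw [if_neg, ind_of_ne h1, ind_of_ne h2, mul_zero, add_zero]
                rintro ⟨μ, hμσ, hχ⟩
                rw [← hΛeq μ.1 μ.2] at hχ
                rcases hall μ.1 μ.2 hμσ with hh | hh | hh | hh
                · exact h1 (by rw [hχ, hh])
                · exact h1 (by rw [hχ, hh, hΛinv ν₁.1 ν₁.2 hν₁σ])
                · exact h2 (by rw [hχ, hh])
                · exact h2 (by rw [hχ, hh, hΛinv ν₂.1 ν₂.2 hν₂σ])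
          rw [key]
          ring }

end Cfsg.Agent.Helper12.BSW
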